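import Cfsg.Agent.H670.Palfy.Five
import Cfsg.Agent.H377.DegSolv.Two
import Cfsg.Agent.H559.CoreA

/-!
# The pentagon, configuration 2b (helper173, plan of helper670)
-/

set_option autoImplicit false
set_option linter.unusedSectionVars false
set_option linter.style.haveILetI false

namespace Cfsg.Agent.H173.Penta

open Cfsg Cfsg.Agent.H670.Palfy Cfsg.Agent.H377.DegSolv Cfsg.Agent.H559.CoreA Subgroup
open Cfsg.Agent.H672 Cfsg.Agent.H672.RM Cfsg.Agent.H675.Nd

universe u v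

theorem bot_ne_top {V : Type*} [AddCommGroup V] [Nontrivial V] : (⊥ : AddSubgroup V) ≠ ⊤ := by
  obtain ⟨v, hv⟩ := exists_ne (0 : V)
  intro h1
  exact hv ((h1 ▸ AddSubgroup.mem_top v : v ∈ (⊥ : AddSubgroup V)))

theorem ne_of_nd {p q s u r : ℕ} (h : [p, q, s, u, r].Nodup) :
    q ≠ p ∧ s ≠ p ∧ u ≠ p ∧ r ≠ p := by
  simp only [List.nodup_cons, List.mem_cons, List.not_mem_nil, or_false, not_or] at h
  exact ⟨Ne.symm h.1.1, Ne.symm h.1.2.1, Ne.symm h.1.2.2.1, Ne.symm h.1.2.2.2⟩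

section

variable {G : Type u} [Group G] [Finite G] {M P : Subgroup G} [M.Normal] [P.Normal] {H : Subgroup G} {p : ℕ}

/-- degrees over the vectors of `[W, Y]` -/
theorem cfgX (h : T2 G M P H p) {y : ℕ} (Y : Sylow y H) (hY : (Y : Subgroup H).Normal) (v : SW P Y hY)
    (hv : v ≠ 0) : ∀ d ∈ Cfsg.charDegrees (MulAction.stabilizer H v),
      ∃ e ∈ Cfsg.charDegrees G, (MulAction.stabilizer H v).index * d ∣ e := by
  intro d hd
  have hst : MulAction.stabilizer H v = MulAction.stabilizer H v.val := by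
    ext x
    rw [MulAction.mem_stabilizer_iff, MulAction.mem_stabilizer_iff]
    exact Sub.smul_eq_iff x v
  have hv0 : v.val ≠ 0 := fun h0 => hv (Sub.ext h0)
  rw [hst] at hd ⊢
  obtain ⟨e, he, h1, -⟩ := h.cfgW v.val hv0 d hd
  exact ⟨e, he, h1⟩

/-- the degree of a character over `ν` is divisible by the degree of `ν` -/
theorem dvd_subtype {T : Type u} [Group T] [Finite T] (K : Subgroup T) [K.Normal] {ψ : T → ℂ}
    (hψ : IsIrrCharacter T ψ) {ν : K → ℂ} (hν : IsIrrCharacter K ν) (ho : Over K.subtype ψ ν) :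
    charDegree ν ∣ charDegree ψ :=
  (Dvd.intro_left _ rfl).trans (index_mul_charDegree_dvd K hψ hν ho)

/-- If `u` does not divide `|H : K([W, Y])|` and `s` (not adjacent to `u`) is nontrivial on `[W, Y]`, the Sylow
`u`-subgroup of `H` is normal, commutative and contained in the kernel of `[W, Y]`. -/
theorem sylow_of_core (hG : Group.IsSolvable G) (hp : p.Prime) (h : T2 G M P H p) {y s u : ℕ} [hs : Fact s.Prime]
    [hu : Fact u.Prime] (hsu : NA s u G) (Y : Sylow y H) (hY : (Y : Subgroup H).Normal) {n : ℕ} {C : Subgroup H}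
    (hC : SLD H (SW P Y hY) C p n) (huf : UF s H (⊥ : AddSubgroup (SW P Y hY))) (S : Sylow s H)
    (hS : ¬ Triv (SW P Y hY) (S : Subgroup H)) (hi : ¬ u ∣ (Ker H (SW P Y hY)).index) (U : Sylow u H) :
    (U : Subgroup H).Normal ∧ (∀ a ∈ (U : Subgroup H), ∀ b ∈ (U : Subgroup H), a * b = b * a) ∧
      (U : Subgroup H) ≤ Ker H (SW P Y hY) := by
  have hH : Group.IsSolvable H := inferInstance
  haveI := finite_W hp h
  refine sylow_of_normal hH (Ker H (SW P Y hY)) hi ?_ U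
  rintro _ ⟨⟨ν, hν⟩, rfl⟩ hd
  refine coreA hC huf S hS ν hν ?_ ?_
  · intro ψ hψ ho hsd
    exact hsu _ (h.cd ⟨⟨ψ, hψ⟩, rfl⟩) hsd (hd.trans (dvd_subtype _ hψ hν ho))
  · intro v hv ψ hψ ho hsd
    obtain ⟨e, he, hde⟩ := cfgX h Y hY v hv _ ⟨⟨ψ, hψ⟩, rfl⟩
    have h1 := dvd_of_over (hKle v) (fun x _ => by
      rw [Subgroup.normalizer_eq_top]; exact Subgroup.mem_top x) hψ hν ho
    have h2 : charDegree ν ∣ charDegree ψ := (Dvd.intro_left _ rfl).trans h1
    exact hsu e he (hsd.trans hde) ((hd.trans h2).trans ((Dvd.intro_left _ rfl).trans hde))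

end

/-- **PENTA-2b.** -/
theorem penta2b (hSL : FactSL.{u, u}) : Penta2b.{u} := by
  intro G _ _ hG M P _ _ H p q s u r h5 h hq hr
  have hp := h5.hp
  haveI := Fact.mk h5.hq
  haveI := Fact.mk h5.hs
  haveI := Fact.mk h5.hu
  haveI := Fact.mk h5.hr
  obtain ⟨hqp, hsp, hup, hrp⟩ := ne_of_nd h5.nd
  haveI := finite_V hp h
  haveI := finite_W hp h
  obtain ⟨a, ha, hV⟩ := h.card
  haveI := nontrivial_of_card hp ha hV
  have hH : Group.IsSolvable H := inferInstance
  have ufq : UF q H (⊥ : AddSubgroup (LC M)) := uf_of_cfg hH h.cfgV fun e he h1 h2 => h5.pq e he h1 h2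
  have ufr : UF r H (⊥ : AddSubgroup (LC M)) := uf_of_cfg hH h.cfgV fun e he h1 h2 => h5.rrp e he h2 h1
  obtain ⟨Q⟩ : Nonempty (Sylow q H) := inferInstance
  obtain ⟨R⟩ : Nonempty (Sylow r H) := inferInstance
  obtain ⟨S⟩ : Nonempty (Sylow s H) := inferInstance
  obtain ⟨U⟩ : Nonempty (Sylow u H) := inferInstance
  have hQn : (Q : Subgroup H).Normal := ufq.normal_of_triv bot_ne_top (hq Q)
  have hQc := comm_of_cfg hH h.cfgV (fun e he h1 h2 => h5.pq e he h1 h2) inferInstance Q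
  have hQW : ¬ Triv (LC P) (Q : Subgroup H) := h.nt q h5.hq hqp h5.rq Q hQn hQc
  have hKV : Ker H (SW P Q hQn) ≤ Ker H (LC M) := by
    intro x hx
    refine h.ker_com q h5.hq hqp h5.pq Q hQn (hq Q) hQW x fun w hw => ?_
    exact congrArg Sub.val (hx (H670.Palfy.Sub.mk (inv_com (V := LC P) (Q : Subgroup H) hQn) w hw))
  have hlt := h.card_com q h5.hq hqp h5.pq Q hQn (hq Q) hQW
  obtain ⟨n, C, hn, hcard, hC, hufs, hnts, -, -, hCd⟩ := factB hSL hG hp h hqp hsp h5.qs h5.rs Q hQn hQW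
  have hsC : s ∣ C.index := (hC.uf s h5.hs hufs S (hnts S)).1
  have huC : ¬ u ∣ C.index := fun h1 => h5.su _ hCd hsC h1
  -- `u` does not divide `c`
  have huc : ¬ u ∣ (Ker H (SW P Q hQn)).relIndex C := by
    intro h1
    have hcf : Cfg (Cfsg.charDegrees G) H (SW P Q hQn) u := by
      intro v hv d hd
      obtain ⟨e, he, hde⟩ := cfgX h Q hQn v hv d hd
      exact ⟨e, he, hde, (h1.trans (hC.stab v hv)).trans ((Dvd.intro _ rfl).trans hde)⟩
    have ufr' : UF r H (⊥ : AddSubgroup (SW P Q hQn)) := uf_of_cfg hH hcf fun e he h2 h3 => h5.ur e he h2 h3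
    have h2 := UF.card_eq hp ufr ufr' hV hC.card ha hn (ufr.card_ne_one (hr R))
    rw [hV, hcard, h2] at hlt
    exact lt_irrefl _ hlt
  have hui : ¬ u ∣ (Ker H (SW P Q hQn)).index := by
    rw [← relIndex_mul_index hC.ker]
    intro h1
    rcases h5.hu.dvd_mul.1 h1 with h1 | h1
    · exact huc h1
    · exact huC h1
  obtain ⟨hUn, hUc, hUK⟩ := sylow_of_core hG hp h h5.su Q hQn hC hufs S (hnts S) hui U
  have hUW : ¬ Triv (LC P) (U : Subgroup H) := h.nt u h5.hu hup h5.ru U hUn hUc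
  obtain ⟨-, -, -, -, -, -, -, hfix, -, -⟩ := factB hSL hG hp h hup hrp h5.ur h5.rr U hUn hUW
  apply hr R
  intro x hx v
  have h1 : x ∈ Ker H (SW P Q hQn) := by
    intro w
    refine Sub.ext (hfix R x hx w.val ?_)
    intro z hz
    exact congrArg Sub.val (hUK hz w)
  exact hKV h1 v

end Cfsg.Agent.H173.Penta
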