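import Cfsg.Agent.H173.Penta.B
import Cfsg.Agent.H681.DegBasic

/-!
# The pentagon, configuration 2c (helper173, plan of helper670)
-/

set_option autoImplicit false
set_option linter.unusedSectionVars false
set_option linter.style.haveILetI false

namespace Cfsg.Agent.H173.Penta

open Cfsg Cfsg.Agent.H670.Palfy Cfsg.Agent.H377.DegSolv Subgroup
open Cfsg.Agent.H672 Cfsg.Agent.H672.RM Cfsg.Agent.H675.Nd Cfsg.Agent.Characters.Core

universe u v

section

variable {H : Type u} {V : Type v} [Group H] [AddCommGroup V] [DistribMulAction H V]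

theorem uf_congr {z : ℕ} {Y Y' : AddSubgroup V} (e : Y = Y') {hY : Inv H Y} {hY' : Inv H Y'}
    (h : UF z H (⊥ : AddSubgroup (Sub hY))) : UF z H (⊥ : AddSubgroup (Sub hY')) := by
  subst e
  exact h

theorem triv_congr {Z : Subgroup H} {Y Y' : AddSubgroup V} (e : Y = Y') {hY : Inv H Y} {hY' : Inv H Y'}
    (h : ¬ Triv (Sub hY) Z) : ¬ Triv (Sub hY') Z := by
  subst e
  exact h

/-- Two invariant subgroups: an irreducible one is contained in the other or meets it trivially. -/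
theorem irr_cases {Y Y' : AddSubgroup V} {hY : Inv H Y} (hY' : Inv H Y') (h : Irr H (Sub hY)) :
    Y ⊓ Y' = ⊥ ∨ Y ≤ Y' := by
  let val : Sub hY →+ V := Y.subtype
  have hval : ∀ w : Sub hY, val w = w.val := fun _ => rfl
  rcases h (Y'.comap val) (fun g w hw => by
    rw [AddSubgroup.mem_comap, hval] at hw ⊢
    exact hY' g _ hw) with h2 | h2
  · left
    rw [eq_bot_iff]
    rintro w ⟨hw1, hw2⟩
    have h3 : H670.Palfy.Sub.mk hY w hw1 ∈ Y'.comap val := hw2
    rw [h2, AddSubgroup.mem_bot] at h3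
    exact AddSubgroup.mem_bot.2 (congrArg Sub.val h3)
  · right
    intro w hw
    have h3 : H670.Palfy.Sub.mk hY w hw ∈ Y'.comap val := by
      rw [h2]; trivial
    exact h3

/-- `Y ∩ [V, Z] = 0`: `Z` acts trivially on `Y` -/
theorem le_fixed {Z : Subgroup H} {Y : AddSubgroup V} (hY : Inv H Y) (h : Y ⊓ com V Z = ⊥) : Y ≤ fixed V Z := by
  intro w hw z hz
  have h1 : z • w - w ∈ Y ⊓ com V Z :=
    AddSubgroup.mem_inf.2 ⟨AddSubgroup.sub_mem _ (hY z w hw) hw, AddSubgroup.subset_closure ⟨z, hz, w, rfl⟩⟩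
  rw [h, AddSubgroup.mem_bot] at h1
  exact sub_eq_zero.1 h1

/-- If each nonzero vector is fixed by exactly one Sylow `s`-subgroup, a nontrivial one, some degree of `N ⧸ Ker` is
divisible by `s` for the subgroups `N` containing all Sylow `s`-subgroups. -/
theorem exists_deg [Finite H] (hH : Group.IsSolvable H) {s : ℕ} [hs : Fact s.Prime]
    (huf : UF s H (⊥ : AddSubgroup V)) (S : Sylow s H) (hS : ¬ Triv V (S : Subgroup H)) (N : Subgroup H)
    (hle : ∀ S : Sylow s H, (S : Subgroup H) ≤ N) :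
    ∃ b ∈ Cfsg.charDegrees (N ⧸ (Ker H V).subgroupOf N), s ∣ b := by
  by_contra hcon
  push Not at hcon
  have hsolv : Group.IsSolvable (N ⧸ (Ker H V).subgroupOf N) := inferInstance
  have hsub : ∀ T : Sylow s H, ∀ x (hx : x ∈ (S : Subgroup H)), ∃ y ∈ (T : Subgroup H), y⁻¹ * x ∈ Ker H V := by
    intro T x hx
    have hf := QuotientGroup.mk'_surjective ((Ker H V).subgroupOf N)
    let S1 : Sylow s (N ⧸ (Ker H V).subgroupOf N) := (S.subtype (hle S)).mapSurjective hf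
    let T1 : Sylow s (N ⧸ (Ker H V).subgroupOf N) := (T.subtype (hle T)).mapSurjective hf
    obtain ⟨hn, -⟩ := im_solvable hsolv hcon S1
    have : Unique (Sylow s (N ⧸ (Ker H V).subgroupOf N)) := Sylow.unique_of_normal _ hn
    have h1 : S1 = T1 := Subsingleton.elim _ _
    have h2 : QuotientGroup.mk' ((Ker H V).subgroupOf N) ⟨x, hle S hx⟩ ∈ (S1 : Subgroup _) :=
      ⟨⟨x, hle S hx⟩, hx, rfl⟩
    rw [h1] at h2
    obtain ⟨y, hy, hyx⟩ := h2
    refine ⟨y, hy, ?_⟩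
    have h3 := QuotientGroup.eq.1 hyx
    rw [mem_subgroupOf] at h3
    exact h3
  apply hS
  intro x hx v
  by_cases hv : v = 0
  · rw [hv, smul_zero]
  obtain ⟨T, hT, -⟩ := huf v hv
  obtain ⟨y, hy, hyx⟩ := hsub T x hx
  have h1 : x = y * (y⁻¹ * x) := by group
  rw [h1, mul_smul, hyx v]
  exact hT y hy

end

/-- `N = A B`, `A`, `B` normal: products of degrees of `N / A` and `N / B` divide degrees of `H`. -/
theorem exists_deg_mul {H : Type u} [Group H] [Finite H] (A B : Subgroup H) [hA : A.Normal] [hB : B.Normal] {a b : ℕ}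
    (ha : a ∈ Cfsg.charDegrees (↥(A ⊔ B) ⧸ A.subgroupOf (A ⊔ B)))
    (hb : b ∈ Cfsg.charDegrees (↥(A ⊔ B) ⧸ B.subgroupOf (A ⊔ B))) :
    ∃ e ∈ Cfsg.charDegrees H, a * b ∣ e := by
  classical
  obtain ⟨β, hβ, hβ1⟩ := H681.DegBasic.mem_charDegrees.1 hb
  have hf := QuotientGroup.mk'_surjective (B.subgroupOf (A ⊔ B))
  have hχ : IsIrrCharacter ↥(A ⊔ B) (β ∘ QuotientGroup.mk' (B.subgroupOf (A ⊔ B))) := isIrr_comp _ hf hβ
  have hsurj : Function.Surjective ((QuotientGroup.mk' (B.subgroupOf (A ⊔ B))).comp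
      (A.subgroupOf (A ⊔ B)).subtype) := by
    intro x
    obtain ⟨⟨n, hn⟩, rfl⟩ := hf x
    obtain ⟨y, hy, z, hz, hyz⟩ := Subgroup.mem_sup_of_normal_left.1 hn
    have hyN : y ∈ A ⊔ B := (le_sup_left : A ≤ A ⊔ B) hy
    refine ⟨⟨⟨y, hyN⟩, mem_subgroupOf.2 hy⟩, ?_⟩
    change (QuotientGroup.mk ⟨y, hyN⟩ : ↥(A ⊔ B) ⧸ B.subgroupOf (A ⊔ B)) = QuotientGroup.mk ⟨n, hn⟩
    rw [QuotientGroup.eq, mem_subgroupOf]
    change y⁻¹ * n ∈ B
    rw [← hyz, inv_mul_cancel_left]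
    exact hz
  have hmem := H681.DegBasic.gallagher (QuotientGroup.mk' (A.subgroupOf (A ⊔ B)))
    (QuotientGroup.mk'_surjective _) (A.subgroupOf (A ⊔ B)) (fun k hk => (QuotientGroup.eq_one_iff _).2 hk) hχ
    (isIrr_comp _ hsurj hβ) (n := b) (by
      change β (QuotientGroup.mk' (B.subgroupOf (A ⊔ B)) 1) = b
      rw [map_one, hβ1]) ha
  obtain ⟨⟨θ, hθ⟩, hθd⟩ := hmem
  obtain ⟨ψ, hψ, ho⟩ := exists_over_subtype (A ⊔ B) hθ
  refine ⟨charDegree ψ, ⟨⟨ψ, hψ⟩, rfl⟩, ?_⟩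
  rw [← hθd]
  exact dvd_subtype _ hψ hθ ho

/-- **PENTA-2c.** -/
theorem penta2c (hSL : FactSL.{u, u}) : Penta2c.{u} := by
  intro G _ _ hG M P _ _ H p q s u r h5 h hq hr
  have hp := h5.hp
  haveI := Fact.mk h5.hq
  haveI := Fact.mk h5.hs
  haveI := Fact.mk h5.hu
  haveI := Fact.mk h5.hr
  obtain ⟨hqp, hsp, hup, hrp⟩ := ne_of_nd h5.nd
  haveI := finite_V hp h
  haveI := finite_W hp h
  obtain ⟨a, ha, hV⟩ := h.card
  haveI := nontrivial_of_card hp ha hV
  have hH : Group.IsSolvable H := inferInstance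
  have ufq : UF q H (⊥ : AddSubgroup (LC M)) := uf_of_cfg hH h.cfgV fun e he h1 h2 => h5.pq e he h1 h2
  have ufr : UF r H (⊥ : AddSubgroup (LC M)) := uf_of_cfg hH h.cfgV fun e he h1 h2 => h5.rrp e he h2 h1
  obtain ⟨Q⟩ : Nonempty (Sylow q H) := inferInstance
  obtain ⟨R⟩ : Nonempty (Sylow r H) := inferInstance
  obtain ⟨S⟩ : Nonempty (Sylow s H) := inferInstance
  obtain ⟨U⟩ : Nonempty (Sylow u H) := inferInstance
  have hQn : (Q : Subgroup H).Normal := ufq.normal_of_triv bot_ne_top (hq Q)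
  have hRn : (R : Subgroup H).Normal := ufr.normal_of_triv bot_ne_top (hr R)
  have hQc := comm_of_cfg hH h.cfgV (fun e he h1 h2 => h5.pq e he h1 h2) inferInstance Q
  have hRc := comm_of_cfg hH h.cfgV (fun e he h1 h2 => h5.rrp e he h2 h1) inferInstance R
  have hQW : ¬ Triv (LC P) (Q : Subgroup H) := h.nt q h5.hq hqp h5.rq Q hQn hQc
  have hRW : ¬ Triv (LC P) (R : Subgroup H) := h.nt r h5.hr hrp h5.rr R hRn hRc
  obtain ⟨n, C, hn, hcard, hC, hufs, hnts, hfixs, -, hCd⟩ := factB hSL hG hp h hqp hsp h5.qs h5.rs Q hQn hQW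
  obtain ⟨n', C', hn', hcard', hC', hufu, hntu, hfixu, -, -⟩ :=
    factB hSL hG hp h hrp hup (na_symm h5.ur) h5.ru R hRn hRW
  have hIq := inv_com (V := LC P) (Q : Subgroup H) hQn
  have hIr := inv_com (V := LC P) (R : Subgroup H) hRn
  have hirq : Irr H (SW P Q hQn) := hufs.irr hp hC.card (hnts S)
  have hirr : Irr H (SW P R hRn) := hufu.irr hp hC'.card (hntu U)
  by_cases heq : com (LC P) (Q : Subgroup H) = com (LC P) (R : Subgroup H)
  · -- equal
    have h1 : UF u H (⊥ : AddSubgroup (SW P Q hQn)) := uf_congr heq.symm hufu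
    have h2 : ¬ Triv (SW P Q hQn) (U : Subgroup H) := triv_congr heq.symm (hntu U)
    exact h5.su _ hCd (hC.uf s h5.hs hufs S (hnts S)).1 (hC.uf u h5.hu h1 U h2).1
  have hinf : com (LC P) (Q : Subgroup H) ⊓ com (LC P) (R : Subgroup H) = ⊥ := by
    rcases irr_cases hIr hirq with h1 | h1
    · exact h1
    rcases irr_cases hIq hirr with h2 | h2
    · rw [inf_comm]; exact h2
    · exact absurd (le_antisymm h1 h2) heq
  have hqf : com (LC P) (Q : Subgroup H) ≤ fixed (LC P) (R : Subgroup H) := le_fixed hIq hinf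
  have hrf : com (LC P) (R : Subgroup H) ≤ fixed (LC P) (Q : Subgroup H) := le_fixed hIr (by rw [inf_comm]; exact hinf)
  have hSB : ∀ S : Sylow s H, (S : Subgroup H) ≤ Ker H (SW P R hRn) := fun S x hx w =>
    Sub.ext (hfixs S x hx w.val (hrf w.mem))
  have hUA : ∀ U : Sylow u H, (U : Subgroup H) ≤ Ker H (SW P Q hQn) := fun U x hx w =>
    Sub.ext (hfixu U x hx w.val (hqf w.mem))
  obtain ⟨b, hb, hsb⟩ := exists_deg hH hufs S (hnts S) (Ker H (SW P Q hQn) ⊔ Ker H (SW P R hRn))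
    fun S => (hSB S).trans le_sup_right
  obtain ⟨c, hc, huc⟩ := exists_deg hH hufu U (hntu U) (Ker H (SW P Q hQn) ⊔ Ker H (SW P R hRn))
    fun U => (hUA U).trans le_sup_left
  obtain ⟨e, he, hde⟩ := exists_deg_mul (Ker H (SW P Q hQn)) (Ker H (SW P R hRn)) hb hc
  exact h5.su e (h.cd he) (hsb.trans ((Dvd.intro _ rfl).trans hde)) (huc.trans ((Dvd.intro_left _ rfl).trans hde))

end Cfsg.Agent.H173.Penta
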